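import Cfsg.Agent.CpAutTh.ThreeE
import Cfsg.Agent.KFacts.Th.Main
import Cfsg.Agent.ThType.CSideWords
import Cfsg.Agent.MonsterX.ThOneClass
set_option linter.all false

/-!
# The Thompson group has no element of order 16 (helper27, for S5527)

A light copy of the part of `H653/ThE` (helper653) which proves `no16`.
-/

set_option autoImplicit false
set_option maxRecDepth 100000

namespace Cfsg.Agent.BX.Sv.Th16

open Subgroup
open Cfsg.Agent.Th.Base Cfsg.Agent.Th.Word Cfsg.Agent.Th.RelWords Cfsg.Agent.Th.PermTab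
  Cfsg.Agent.Th.KOracle Cfsg.Agent.Th.KPerm Cfsg.Agent.Th.NineAct Cfsg.Agent.Th.CStruct
  Cfsg.Agent.Th.COracleDef Cfsg.Agent.Th.COracleSound Cfsg.Agent.Th.IndexUpper
open Cfsg.Agent.KFacts.Th.Mask Cfsg.Agent.KFacts.Th.Struct
open Cfsg.Agent.CpAutTh.Data Cfsg.Agent.CpAutTh.Alt Cfsg.Agent.CpAutTh.Local
open Cfsg.Agent.ThType.CSideModel (pw Basis ι lo hi par4 nmul app img Acts ι_nmul ι_zero ι_z ι_gen)
open Cfsg.Agent.ThType.CSideWords (ninv ι_ninv ι_congr)

universe u

/-- the words of the basis -/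
def xwl : List (List ℕ) :=
  [[4, 3, 4], [6, 11, 4, 3, 4, 10, 7], [6, 6, 11, 4, 3, 4, 10, 7, 7], [8, 6, 11, 4, 3, 4, 10, 7, 9],
   [5, 4, 3, 4, 5], [7, 11, 5, 4, 3, 4, 5, 10, 6], [7, 7, 11, 5, 4, 3, 4, 5, 10, 6, 6],
   [8, 7, 11, 5, 4, 3, 4, 5, 10, 6, 9]]

/-- the word of `x i` -/
def xw (i : ℕ) : List ℕ := xwl.getD i []

/-- the elements of the basis -/
def bx {G : Type u} [Group G] (γ : ℕ → G) (i : Fin 8) : G := ev γ (xw i)

/-- the word of the factor number `i` -/
def bw (n i : ℕ) : List ℕ := Bool.rec [] (xw i) (n.testBit i)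

/-- the word of the element with code `n` -/
def wcode (n : ℕ) : List ℕ :=
  (Bool.rec [] [1] (n.testBit 8) : List ℕ) ++ (bw n 0 ++ (bw n 1 ++ (bw n 2 ++ (bw n 3 ++ (bw n 4 ++ (bw n 5 ++
    (bw n 6 ++ bw n 7)))))))

theorem xw_isC : ∀ i < 8, ∀ x ∈ xw i, isC x = true := by decide +kernel

/-- all relations of the basis -/
theorem rel_check : allB 8 (fun i => allB 8 fun j =>
    corc (xw i ++ (xw j ++ (iw (xw i) ++ (iw (xw j) ++
      (Bool.rec [] [1] (or (Nat.beq (i + 4) j) (Nat.beq (j + 4) i)) : List ℕ)))))) = true := by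
  decide +kernel

theorem sq_check' : allB 8 (fun i => corc (xw i ++ xw i)) = true := by decide +kernel

theorem pm_check' : ∀ i < 8, pm9 (xw i) = 1 := by decide +kernel

/-- codes of the nine involutions -/
def ccl : List ℕ := [255, 1, 16, 157, 179, 87, 217, 117, 59]

theorem cc_check : allB 9 (fun i => corc (wc i ++ iw (wcode (ccl.getD i 0)))) = true := by decide +kernel

/-- the table of a word -/
def chkA (w : List ℕ) (L : List ℕ) : Bool :=
  and (allL isC w) (allB 8 fun i => corc (w ++ (xw i ++ (iw w ++ iw (wcode (img L i))))))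

/-- the code of the fourth power of `ι n * y`, `ι p = y ^ 4` -/
def s4 (L : List ℕ) (p n : ℕ) : ℕ := nmul (nmul (nmul n (app L n)) (app L (app L (nmul n (app L n))))) p

def yB8 : List ℕ := [4, 10, 4, 6, 8, 11]
def LB8 : List ℕ := [9, 259, 269, 271, 449, 406, 502, 183]

theorem actCB8 : chkA yB8 LB8 = true := by decide +kernel

theorem powCB8 : corc (yB8 ++ (yB8 ++ (yB8 ++ (yB8 ++ iw (wcode 256))))) = true := by decide +kernel

def y44 : List ℕ := [5, 6, 8, 10]
def L44 : List ℕ := [44, 390, 374, 224, 112, 269, 461, 115]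

theorem actC44 : chkA y44 L44 = true := by decide +kernel

theorem powC44 : corc (y44 ++ (y44 ++ (y44 ++ (y44 ++ iw (wcode 511))))) = true := by decide +kernel

/-- fourth powers are trivial in `Q` -/
theorem four_Q : allB 512 (fun n => Nat.beq (nmul (nmul n n) (nmul n n)) 0) = true := by decide +kernel

/-- type `(4, 2)`: the eighth power is not `a` -/
theorem eight_B8 : allB 512 (fun n => not (Nat.beq (nmul (s4 LB8 256 n) (s4 LB8 256 n)) 256)) = true := by
  decide +kernel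

/-- type `(4, 4)`: the eighth power is not `a` -/
theorem eight_44 : allB 512 (fun n => not (Nat.beq (nmul (s4 L44 511 n) (s4 L44 511 n)) 256)) = true := by
  decide +kernel

section perm

open Equiv Equiv.Perm

theorem multi248 (m : Multiset ℕ) (h : ∀ n ∈ m, n = 2 ∨ n = 4 ∨ n = 8) :
    m = Multiset.replicate (m.count 2) 2 + Multiset.replicate (m.count 4) 4 + Multiset.replicate (m.count 8) 8 := by
  ext n
  rw [Multiset.count_add, Multiset.count_add, Multiset.count_replicate, Multiset.count_replicate,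
    Multiset.count_replicate]
  by_cases hn : n ∈ m
  · rcases h n hn with rfl | rfl | rfl <;> simp
  · have h0 : m.count n = 0 := Multiset.count_eq_zero_of_notMem hn
    split_ifs with h2 h4 h8 h8 h4 h8 h8 <;> subst_vars <;> simp_all

/-- the types of the even permutations of nine points of order dividing eight -/
theorem types {π : Perm (Fin 9)} (hs : sign π = 1) (h8 : π ^ 8 = 1) :
    π.cycleType = 0 ∨ π.cycleType = {2, 2} ∨ π.cycleType = {2, 2, 2, 2} ∨ π.cycleType = {2, 4} ∨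
      π.cycleType = {4, 4} := by
  have ho : orderOf π ∣ 8 := orderOf_dvd_of_pow_eq_one h8
  have hm : ∀ n ∈ π.cycleType, n = 2 ∨ n = 4 ∨ n = 8 := by
    intro n hn
    have h1 : n ∣ 8 := (dvd_of_mem_cycleType hn).trans ho
    have h2 := two_le_of_mem_cycleType hn
    have h3 : n ≤ 8 := Nat.le_of_dvd (by norm_num) h1
    interval_cases n <;> simp_all
  have hsum : π.cycleType.sum ≤ 9 := by
    rw [π.sum_cycleType]
    exact (Finset.card_le_univ _).trans (by rw [Fintype.card_fin])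
  have hsg := sign_of_cycleType π
  rw [hs] at hsg
  rw [multi248 _ hm] at hsum hsg ⊢
  generalize π.cycleType.count 2 = a at *
  generalize π.cycleType.count 4 = b at *
  generalize π.cycleType.count 8 = c at *
  simp only [Multiset.sum_add, Multiset.sum_replicate, smul_eq_mul] at hsum
  simp only [Multiset.sum_add, Multiset.sum_replicate, smul_eq_mul, Multiset.card_add, Multiset.card_replicate] at hsg
  have hc : c ≤ 1 := by omega
  have hb : b ≤ 2 := by omega
  have ha : a ≤ 4 := by omega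
  interval_cases c <;> interval_cases b <;> interval_cases a <;> first | omega | skip
  all_goals first
    | (left; rfl)
    | (right; left; rfl)
    | (right; right; left; rfl)
    | (right; right; right; left; rfl)
    | (right; right; right; right; rfl)
    | (exfalso; exact absurd hsg (by decide))

end perm

def oB8 : Equiv.Perm (Fin 9) := Equiv.swap 4 5

theorem sB8 : Equiv.Perm.sign oB8 = -1 := by decide +kernel

theorem mB8 : oB8 * pm9 yB8 = pm9 yB8 * oB8 := by decide +kernel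

/-- a four cycle of `pm9 y44` -/
def o44 : Equiv.Perm (Fin 9) := Equiv.swap 1 6 * Equiv.swap 6 4 * Equiv.swap 4 2

/-- the inverse -/
def o44' : Equiv.Perm (Fin 9) := Equiv.swap 4 2 * Equiv.swap 6 4 * Equiv.swap 1 6

theorem s44 : Equiv.Perm.sign o44 = -1 ∧ Equiv.Perm.sign o44' = -1 := by decide +kernel
theorem m44 : o44 * pm9 y44 = pm9 y44 * o44 ∨ o44' * pm9 y44 = pm9 y44 * o44' := by decide +kernel

theorem ex44 : ∃ c : Equiv.Perm (Fin 9), Equiv.Perm.sign c = -1 ∧ c * pm9 y44 = pm9 y44 * c := by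
  rcases m44 with h | h
  · exact ⟨_, s44.1, h⟩
  · exact ⟨_, s44.2, h⟩

theorem tyB8 : (pm9 yB8).cycleType = {2, 4} := by decide +kernel
theorem ty44 : (pm9 y44).cycleType = {4, 4} := by decide +kernel

theorem isB8 : ∀ x ∈ yB8, isC x = true := by decide +kernel
theorem is44 : ∀ x ∈ y44, isC x = true := by decide +kernel

theorem pow4 {G : Type u} [Group G] (x : G) : x ^ 4 = x * x * x * x := by
  rw [pow_succ, pow_succ, pow_succ, pow_one]

theorem nmul_self_lt (m : ℕ) : nmul m m < 512 := by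
  unfold nmul
  have h6 : Nat.xor m m = 0 := Nat.xor_self _
  rw [h6]
  have h7 : par4 (Nat.land (Nat.shiftRight m 4) m) ≤ 1 := Nat.and_le_right
  have h8 : ∀ v : ℕ, v ≤ 1 → Nat.xor 0 (Nat.shiftLeft v 8) < 512 := by
    intro v hv
    interval_cases v <;> decide
  exact h8 _ h7

section

variable {G : Type u} [Group G] {γ : ℕ → G} (h : Ctx γ)
include h

theorem basis : Basis (γ 1) (bx γ) := by
  have hC : ∀ i : Fin 8, bx γ i * γ 1 = γ 1 * bx γ i := fun i => h.mem_C.1 (ev_mem_sub (xw_isC i i.2))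
  have hr : ∀ i j : Fin 8, bx γ i * bx γ j * ((bx γ j * bx γ i)⁻¹ *
      ev γ (Bool.rec [] [1] (or (Nat.beq (i + 4) j) (Nat.beq (j + 4) i)) : List ℕ)) = 1 := by
    intro i j
    have h1 := ev_one h ((allB_iff _ _).1 ((allB_iff _ _).1 rel_check i i.2) j j.2)
    rw [ev_append, ev_append, ev_append, ev_append, ev_iw h.inv, ev_iw h.inv] at h1
    rw [← h1]
    unfold bx
    group
  refine ⟨h.aa, hC, fun i => ?_, fun i => ?_, fun i j h1 h2 => ?_⟩
  · have h1 := ev_one h ((allB_iff _ _).1 sq_check' i i.2)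
    rw [ev_append] at h1
    exact h1
  · have h1 := hr ⟨i.1 + 4, by omega⟩ ⟨i.1, by omega⟩
    have h2 : (or (Nat.beq (i.1 + 4 + 4) i.1) (Nat.beq (i.1 + 4) (i.1 + 4))) = true := by
      rw [Bool.or_eq_true, Nat.beq_eq, Nat.beq_eq]
      exact Or.inr rfl
    simp only [h2] at h1
    rw [ev_singleton, ← mul_assoc, mul_eq_one_iff_eq_inv, mul_inv_eq_iff_eq_mul, ] at h1
    rw [h1]
    congr 1
    rw [inv_eq_iff_mul_eq_one]
    exact h.aa
  · have h3 := hr i j
    have h4 : (or (Nat.beq (i.1 + 4) j.1) (Nat.beq (j.1 + 4) i.1)) = false := by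
      rw [Bool.or_eq_false_iff]
      constructor
      · rw [← Bool.not_eq_true, Nat.beq_eq]; exact h1
      · rw [← Bool.not_eq_true, Nat.beq_eq]; exact h2
    simp only [h4, ev_nil, mul_one] at h3
    exact mul_inv_eq_one.1 h3

omit h in
theorem ev_bw (n : ℕ) (i : Fin 8) : ev γ (bw n i) = pw (bx γ i) (n.testBit i) := by
  unfold bw bx
  cases n.testBit i <;> rfl

omit h in
/-- the word of the code -/
theorem ev_wcode (n : ℕ) : ev γ (wcode n) = ι (γ 1) (bx γ) n := by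
  have e0 : ev γ (bw n 0) = pw (bx γ 0) (n.testBit 0) := ev_bw n 0
  have e1 : ev γ (bw n 1) = pw (bx γ 1) (n.testBit 1) := ev_bw n 1
  have e2 : ev γ (bw n 2) = pw (bx γ 2) (n.testBit 2) := ev_bw n 2
  have e3 : ev γ (bw n 3) = pw (bx γ 3) (n.testBit 3) := ev_bw n 3
  have e4 : ev γ (bw n 4) = pw (bx γ 4) (n.testBit 4) := ev_bw n 4
  have e5 : ev γ (bw n 5) = pw (bx γ 5) (n.testBit 5) := ev_bw n 5
  have e6 : ev γ (bw n 6) = pw (bx γ 6) (n.testBit 6) := ev_bw n 6
  have e7 : ev γ (bw n 7) = pw (bx γ 7) (n.testBit 7) := ev_bw n 7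
  have e8 : ev γ (Bool.rec [] [1] (n.testBit 8) : List ℕ) = pw (γ 1) (n.testBit 8) := by
    cases n.testBit 8
    · rfl
    · simp [pw]
  unfold wcode ι lo hi
  rw [ev_append, ev_append, ev_append, ev_append, ev_append, ev_append, ev_append, ev_append, e0, e1, e2, e3, e4,
    e5, e6, e7, e8]
  simp only [mul_assoc]

/-- the elements with a code are in `Q` -/
theorem ι_mem (n : ℕ) : ι (γ 1) (bx γ) n ∈ Q0 γ := by
  obtain ⟨f, F⟩ := exists_epi h
  have hx : ∀ i : Fin 8, bx γ i ∈ Q0 γ := by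
    intro i
    have h1 := mem_ker F (x := ⟨ev γ (xw i), ev_mem_sub (xw_isC i i.2)⟩)
    refine h1.1 (MonoidHom.mem_ker.2 (Subtype.ext ?_))
    rw [F.word _ (xw_isC i i.2), pm_check' i i.2]
    rfl
  have hp : ∀ (y : G) (_ : y ∈ Q0 γ) (b : Bool), pw y b ∈ Q0 γ := by
    intro y hy b
    cases b
    · exact Subgroup.one_mem _
    · exact hy
  unfold ι lo hi
  exact Subgroup.mul_mem _ (hp _ h.a_mem _) (Subgroup.mul_mem _
    (Subgroup.mul_mem _ (Subgroup.mul_mem _ (hp _ (hx _) _) (hp _ (hx _) _))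
      (Subgroup.mul_mem _ (hp _ (hx _) _) (hp _ (hx _) _)))
    (Subgroup.mul_mem _ (Subgroup.mul_mem _ (hp _ (hx _) _) (hp _ (hx _) _))
      (Subgroup.mul_mem _ (hp _ (hx _) _) (hp _ (hx _) _))))

omit h in
theorem ι_mod (z : G) (x : Fin 8 → G) (n : ℕ) : ι z x (n % 512) = ι z x n := by
  apply ι_congr
  intro i hi
  rw [show (512 : ℕ) = 2 ^ 9 by norm_num, Nat.testBit_mod_two_pow]
  simp [hi]

/-- every element of `Q` has a code -/
theorem exists_code {q : G} (hq : q ∈ Q0 γ) : ∃ n < 512, q = ι (γ 1) (bx γ) n := by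
  have B := basis h
  have key : ∃ n, q = ι (γ 1) (bx γ) n := by
    refine Subgroup.closure_induction (p := fun q _ => ∃ n, q = ι (γ 1) (bx γ) n) ?_ ?_ ?_ ?_ hq
    · rintro y (rfl | ⟨j, rfl⟩)
      · exact ⟨256, ι_z.symm⟩
      · refine ⟨ccl.getD j 0, ?_⟩
        have h1 := ev_one h ((allB_iff _ _).1 cc_check j j.2)
        rw [ev_append, ev_iw h.inv, ev_wcode, mul_inv_eq_one] at h1
        exact h1
    · exact ⟨0, ι_zero.symm⟩
    · rintro _ _ _ _ ⟨m, rfl⟩ ⟨n, rfl⟩
      exact ⟨nmul m n, (ι_nmul B m n).symm⟩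
    · rintro _ _ ⟨m, rfl⟩
      exact ⟨ninv m, (ι_ninv B m).symm⟩
  obtain ⟨n, rfl⟩ := key
  exact ⟨n % 512, Nat.mod_lt _ (by norm_num), (ι_mod _ _ n).symm⟩

/-- the code is unique -/
theorem ι_inj {m n : ℕ} (hm : m < 512) (hn : n < 512) (hmn : ι (γ 1) (bx γ) m = ι (γ 1) (bx γ) n) : m = n := by
  have := h.fin
  let F : Fin 512 → Q0 γ := fun i => ⟨ι (γ 1) (bx γ) i, ι_mem h i⟩
  have hs : Function.Surjective F := by
    rintro ⟨q, hq⟩
    obtain ⟨n, hn, rfl⟩ := exists_code h hq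
    exact ⟨⟨n, hn⟩, rfl⟩
  have hb : Function.Bijective F := by
    rw [Function.Surjective.bijective_of_nat_card_le hs (by rw [h.cardQ, Nat.card_fin]) |> iff_true_intro] 
    trivial
  have h1 := hb.1 (a₁ := ⟨m, hm⟩) (a₂ := ⟨n, hn⟩) (Subtype.ext hmn)
  exact congrArg Fin.val h1

theorem acts {w L : List ℕ} (hc : chkA w L = true) : Acts (γ 1) (bx γ) (ev γ w) L := by
  unfold chkA at hc
  rw [Bool.and_eq_true, allL_iff, allB_iff] at hc
  refine ⟨h.mem_C.1 (ev_mem_sub hc.1), fun i => ?_⟩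
  have h1 := ev_one h (hc.2 i i.2)
  rw [ev_append, ev_append, ev_append, ev_iw h.inv, ev_iw h.inv, ev_wcode, ← mul_assoc, ← mul_assoc,
    mul_inv_eq_one] at h1
  exact h1

/-- fourth powers in a coset -/
theorem four_coset {y : G} {L : List ℕ} (A : Acts (γ 1) (bx γ) y L) {p : ℕ} (hp : y ^ 4 = ι (γ 1) (bx γ) p) (n : ℕ) :
    (ι (γ 1) (bx γ) n * y) ^ 4 = ι (γ 1) (bx γ)
      (nmul (nmul (nmul n (app L n)) (app L (app L (nmul n (app L n))))) p) := by
  have B := basis h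
  have e : ∀ u : G, u ^ 4 = u * u * (u * u) := fun u => by rw [← pow_two, ← pow_two, ← pow_mul]
  rw [ι_nmul B, ι_nmul B, ← A.conj B (app L _), ← A.conj B (nmul _ _), ι_nmul B, ← A.conj B n, ← hp, e (_ * y)]
  group

theorem fourB8 : ev γ yB8 ^ 4 = ι (γ 1) (bx γ) 256 := by
  have h1 := ev_one h powCB8
  rw [ev_append, ev_append, ev_append, ev_append, ev_iw h.inv, ev_wcode, ← mul_assoc, ← mul_assoc, ← mul_assoc,
    mul_inv_eq_one] at h1
  rw [← h1, pow4]

theorem four44 : ev γ y44 ^ 4 = ι (γ 1) (bx γ) 511 := by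
  have h1 := ev_one h powC44
  rw [ev_append, ev_append, ev_append, ev_append, ev_iw h.inv, ev_wcode, ← mul_assoc, ← mul_assoc, ← mul_assoc,
    mul_inv_eq_one] at h1
  rw [← h1, pow4]

/-- fourth powers of `Q` -/
theorem Q_four {q : G} (hq : q ∈ Q0 γ) : q ^ 4 = 1 := by
  have B := basis h
  obtain ⟨n, hn, rfl⟩ := exists_code h hq
  have h1 := (allB_iff _ _).1 four_Q n hn
  rw [Nat.beq_eq] at h1
  rw [← ι_zero (z := γ 1) (x := bx γ), ← h1, ι_nmul B, ι_nmul B, pow4]
  simp only [mul_assoc]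

variable {f : sub γ isC →* alternatingGroup (Fin 9)} (F : Epi γ f)
include F

/-- conjugation into a coset -/
theorem to_coset {wy : List ℕ} (hy : ∀ x ∈ wy, isC x = true) {x : G} (hx : x ∈ sub γ isC)
    (ht : ((f ⟨x, hx⟩ : alternatingGroup (Fin 9)) : Equiv.Perm (Fin 9)).cycleType = (pm9 wy).cycleType)
    (c : Equiv.Perm (Fin 9)) (hc : Equiv.Perm.sign c = -1) (hcc : c * pm9 wy = pm9 wy * c) :
    ∃ g ∈ sub γ isC, ∃ n < 512, g * x * g⁻¹ = ι (γ 1) (bx γ) n * ev γ wy := by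
  have e := F.word wy hy
  obtain ⟨π, hπ⟩ := conjA (f ⟨x, hx⟩) (f ⟨ev γ wy, ev_mem_sub hy⟩) (by rw [e, ht]) c hc (by rw [e, hcc])
  obtain ⟨g, rfl⟩ := F.surj π
  have h1 : g * ⟨x, hx⟩ * g⁻¹ * (⟨ev γ wy, ev_mem_sub hy⟩ : sub γ isC)⁻¹ ∈ f.ker := by
    rw [MonoidHom.mem_ker, map_mul, map_mul, map_mul, map_inv, map_inv, hπ, mul_inv_cancel]
  have h2 := (mem_ker F).1 h1
  obtain ⟨n, hn, hq⟩ := exists_code h h2
  refine ⟨g, g.2, n, hn, ?_⟩
  rw [← hq]
  change (g : G) * x * (g : G)⁻¹ = ((g : G) * x * (g : G)⁻¹ * (ev γ wy)⁻¹) * ev γ wy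
  group

omit F in
/-- powers are conjugate in `C` -/
theorem conj_pow_z {x g : G} (hg : g ∈ sub γ isC) {k : ℕ} (hx : x ^ k = γ 1) : (g * x * g⁻¹) ^ k = γ 1 := by
  rw [conj_pow, hx, mul_inv_eq_iff_eq_mul]
  exact h.mem_C.1 hg

omit F in
theorem mem_C_of_pow {x : G} {k : ℕ} (hx : x ^ k = γ 1) : x ∈ sub γ isC := by
  rw [h.mem_C, ← hx]
  exact (Commute.self_pow x k).eq

omit h in
/-- the type of the image -/
theorem im_types {x : G} (hxC : x ∈ sub γ isC) (h16 : x ^ 8 ∈ Q0 γ) :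
    let π := ((f ⟨x, hxC⟩ : alternatingGroup (Fin 9)) : Equiv.Perm (Fin 9))
    π.cycleType = 0 ∨ π.cycleType = {2, 2} ∨ π.cycleType = {2, 2, 2, 2} ∨ π.cycleType = {2, 4} ∨
      π.cycleType = {4, 4} := by
  refine types (Equiv.Perm.mem_alternatingGroup.1 (f ⟨x, hxC⟩).2) ?_
  have h1 : (⟨x, hxC⟩ : sub γ isC) ^ 8 ∈ f.ker := (mem_ker F).2 h16
  rw [MonoidHom.mem_ker, map_pow] at h1
  exact congrArg Subtype.val h1

omit h in
theorem mem_Q {x : G} (hxC : x ∈ sub γ isC)
    (ht : ((f ⟨x, hxC⟩ : alternatingGroup (Fin 9)) : Equiv.Perm (Fin 9)).cycleType = 0) : x ∈ Q0 γ := by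
  have h1 : (⟨x, hxC⟩ : sub γ isC) ∈ f.ker := by
    rw [MonoidHom.mem_ker]
    exact Subtype.ext (Equiv.Perm.cycleType_eq_zero.1 ht)
  exact (mem_ker F).1 h1

omit F in
theorem z_mem : γ 1 ∈ Q0 γ := by
  have h1 := ι_mem h 256
  rwa [ι_z] at h1

/-- **No elements of order 16.** -/
theorem sixteen {x : G} (hx : x ^ 8 = γ 1) : False := by
  have B := basis h
  have hxC := mem_C_of_pow h hx
  -- the fourth power is in `Q` only for the types with a cycle of length four
  have hsq : x ^ 2 ∈ Q0 γ → False := by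
    intro h2
    have h3 := Q_four h h2
    rw [← pow_mul, hx] at h3
    exact h.a1 h3
  rcases im_types F hxC (by rw [hx]; exact z_mem h) with ht | ht | ht | ht | ht
  · exact hsq (Subgroup.pow_mem _ (mem_Q F hxC ht) 2)
  · refine hsq ((mem_ker F (x := (⟨x, hxC⟩ : sub γ isC) ^ 2)).1 ?_)
    rw [MonoidHom.mem_ker, map_pow]
    apply Subtype.ext
    have h7 := pow_orderOf_eq_one ((f ⟨x, hxC⟩ : alternatingGroup (Fin 9)) : Equiv.Perm (Fin 9))
    rw [← Equiv.Perm.lcm_cycleType, ht] at h7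
    exact h7
  · refine hsq ((mem_ker F (x := (⟨x, hxC⟩ : sub γ isC) ^ 2)).1 ?_)
    rw [MonoidHom.mem_ker, map_pow]
    apply Subtype.ext
    have h7 := pow_orderOf_eq_one ((f ⟨x, hxC⟩ : alternatingGroup (Fin 9)) : Equiv.Perm (Fin 9))
    rw [← Equiv.Perm.lcm_cycleType, ht] at h7
    exact h7
  · obtain ⟨g, hg, n, hn, e⟩ := to_coset h F isB8 hxC (by rw [ht, tyB8]) oB8 sB8 mB8
    have A : Acts (γ 1) (bx γ) (ev γ yB8) LB8 := acts h actCB8
    have h1 := conj_pow_z h hg hx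
    rw [e, show ∀ u : G, u ^ 8 = u ^ 4 * u ^ 4 from fun u => by rw [← pow_add], four_coset h A (fourB8 h),
      ← ι_nmul B] at h1
    have h2 : nmul (s4 LB8 256 n) (s4 LB8 256 n) % 512 = 256 := by
      refine ι_inj h (Nat.mod_lt _ (by norm_num)) (by norm_num) ?_
      rw [ι_mod, ι_z]
      exact h1
    have h3 := (allB_iff _ _).1 eight_B8 n hn
    rw [Nat.mod_eq_of_lt (nmul_self_lt _)] at h2
    rw [h2] at h3
    exact absurd h3 (by decide)
  · obtain ⟨c, hc, hcc⟩ := ex44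
    obtain ⟨g, hg, n, hn, e⟩ := to_coset h F is44 hxC (by rw [ht, ty44]) c hc hcc
    have A : Acts (γ 1) (bx γ) (ev γ y44) L44 := acts h actC44
    have h1 := conj_pow_z h hg hx
    rw [e, show ∀ u : G, u ^ 8 = u ^ 4 * u ^ 4 from fun u => by rw [← pow_add], four_coset h A (four44 h),
      ← ι_nmul B] at h1
    have h2 : nmul (s4 L44 511 n) (s4 L44 511 n) % 512 = 256 := by
      refine ι_inj h (Nat.mod_lt _ (by norm_num)) (by norm_num) ?_
      rw [ι_mod, ι_z]
      exact h1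
    have h3 := (allB_iff _ _).1 eight_44 n hn
    rw [Nat.mod_eq_of_lt (nmul_self_lt _)] at h2
    rw [h2] at h3
    exact absurd h3 (by decide)

end

/-- **The Thompson group has no element of order 16.** -/
theorem no16 (x : Spor.Th) : orderOf x ≠ 16 := by
  intro hx
  obtain ⟨f, F⟩ := CpAutTh.Local.exists_epi KFacts.Th.Main.ctx
  obtain ⟨g, hg⟩ := isConj_iff.1 (MonsterX.ThOneClass.oneClass (x ^ 8) (gTh 1) (by rw [orderOf_pow' _ (by norm_num), hx]; rfl)
    MonsterX.ThOneClass.orderOf_a)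
  have h1 : (g * x * g⁻¹) ^ 8 = gTh 1 := by rw [conj_pow]; exact hg
  exact sixteen KFacts.Th.Main.ctx F h1

/-- the same for a group isomorphic to `Th` -/
theorem no16_iso {S : Type u} [Group S] (h : Spor.IsoTh S) (x : S) : orderOf x ≠ 16 := by
  obtain ⟨e⟩ := h
  rw [← e.orderOf_eq]
  exact no16 _

end Cfsg.Agent.BX.Sv.Th16
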